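/-
Fischer's theorem: counting in unitary models and two exceptional isomorphisms.
-/
import Cfsg.Agent.Lib.Fth.Unit3
import Cfsg.Agent.Lib.Fth.Sym3

set_option autoImplicit false
set_option linter.unusedSectionVars false
set_option linter.unusedVariables false

namespace CA.Fth

open Cfsg Subgroup CA.Fi CA.TT CA.Tl CA.Unit QuadraticMap

variable {G : Type*} [Group G] {S D : Set G}

namespace UM

variable {V : Type*} [AddCommGroup V] [Module F4 V] [FiniteDimensional F4 V] {h : Herm F4 V}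
  {t : V → G} {u v w : V} (M : UM S h t)
include M

theorem smul (hv : h v v = 0) (h0 : v ≠ 0) {a : F4} (ha : a ≠ 0) : t (a • v) = t v :=
  ((M.eq_iff _ _ hv h0 (nrm_smul a v hv) (smul_ne_zero ha h0)).2 ⟨a, ha, rfl⟩).symm

theorem commute_iff (hS : Closed S) (hv : h v v = 0) (h0 : v ≠ 0) (hw : h w w = 0) (h0' : w ≠ 0) :
    Commute (t v) (t w) ↔ h v w = 0 := by
  rw [hS.commute_iff_third (M.mem v hv h0), M.conj v w hv h0 hw h0']
  refine ⟨fun e => ?_, fun e => by rw [h_eq_zero_comm e, zero_smul, add_zero]⟩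
  obtain ⟨a, ha, e⟩ := (M.eq_iff _ _ hw h0' (iso_conj F4.hK hv hw) (ne_zero_conj F4.hK hv h0')).1 e.symm
  have := congrArg (fun x => h x w) e
  simp only [h_add_left, h_smul_left, hw, zero_add, mul_zero, mul_eq_zero] at this
  exact this.elim h_eq_zero_comm id

theorem card_of (A : Set V) {X : Set G} (hX : X ⊆ S) (hA : ∀ v ∈ A, h v v = 0 ∧ v ≠ 0)
    (k : ∀ v, h v v = 0 → v ≠ 0 → (t v ∈ X ↔ v ∈ A)) : X.ncard * 3 = A.ncard := by
  haveI : Finite V := Module.finite_of_finite F4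
  rw [← ncard_image_mul (Set.toFinite A) t (k := 3) fun a ha => ?_]
  · congr 2
    ext x
    constructor
    · intro hx
      obtain ⟨v, hv, h0, rfl⟩ := M.surj x (hX hx)
      exact ⟨v, (k v hv h0).1 hx, rfl⟩
    · rintro ⟨v, hv, rfl⟩
      exact (k v (hA v hv).1 (hA v hv).2).2 hv
  · obtain ⟨a1, a2⟩ := hA a ha
    have inj := smul_left_injective F4 a2
    refine Set.ncard_eq_three.2 ⟨(1 : F4) • a, F4.w • a, F4.w' • a, inj.ne (by decide),
      inj.ne (by decide), inj.ne (by decide), Set.ext fun b => ⟨fun hb => ?_, fun hb => ?_⟩⟩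
    · obtain ⟨c, hc, rfl⟩ := (M.eq_iff _ _ a1 a2 (hA b hb.1).1 (hA b hb.1).2).1 hb.2.symm
      rcases F4.cases c with rfl | rfl | rfl | rfl <;> simp at hc ⊢
    · have : ∀ c : F4, c ≠ 0 → c • a ∈ {b | b ∈ A ∧ t b = t a} := fun c hc =>
        ⟨(k _ (nrm_smul c a a1) (smul_ne_zero hc a2)).1 (by
          rw [M.smul a1 a2 hc]; exact (k a a1 a2).2 ha), M.smul a1 a2 hc⟩
      rcases hb with rfl | rfl | rfl <;> exact this _ (by decide)

end UM

theorem IsUn.par {n v k l m : ℕ} (hn : IsUn S (n + 2)) (P : Par S v k l m) :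
    v * 3 + 1 = Nat.card {x // std F4 (Fin (n + 2)) x x = 0} ∧
      k * 3 + 4 = 4 * Nat.card {x // std F4 (Fin n) x x = 0} := by
  obtain ⟨t, M⟩ := hn
  constructor
  · rw [← P.hv, M.card_of {x | std F4 (Fin (n + 2)) x x = 0 ∧ x ≠ 0} subset_rfl (fun _ h => h)
      (fun v a b => iff_of_true (M.mem v a b) ⟨a, b⟩), ← Set.ncard_insert_of_notMem (a := 0) (by simp)]
    refine (Nat.card_coe_set_eq _).symm.trans (Nat.card_congr (Equiv.subtypeEquivRight fun x => ?_))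
    by_cases e : x = 0 <;> simp [e, h_zero_left]
  · set u : Fin (n + 2) → F4 := Fin.cons 1 (Fin.cons 1 0) with hu
    have e1 : ∀ x, std F4 (Fin (n + 2)) u x = 0 ↔ x 0 = x 1 := fun x => by
      rw [std_apply, Fin.sum_univ_succ, Fin.sum_univ_succ]
      simp only [hu, Fin.cons_zero, Fin.cons_succ, Pi.zero_apply, zero_mul, Finset.sum_const_zero]
      simp only [Fin.succ_zero_eq_one]
      generalize x 0 = a, x 1 = b
      revert a b; decide
    have u1 : std F4 (Fin (n + 2)) u u = 0 := (e1 u).2 rfl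
    have u0 : u ≠ 0 := fun e => one_ne_zero (congrFun e 0)
    have inj := smul_left_injective F4 u0
    have e2 := M.card_of {x | std F4 (Fin (n + 2)) x x = 0 ∧ x ≠ 0 ∧ x 0 = x 1}
      (X := {y | y ∈ S ∧ Commute (t u) y}) (fun _ h => h.1) (fun _ h => ⟨h.1, h.2.1⟩) fun v a b => by
        simp only [Set.mem_ofPred_eq, M.mem v a b, M.commute_iff P.cl u1 u0 a b, e1, a, b, true_and,
          ne_eq, not_false_eq_true]
    rw [P.card_perp (M.mem u u1 u0)] at e2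
    have e3 : {x | std F4 (Fin (n + 2)) x x = 0 ∧ x ≠ 0 ∧ x 0 = x 1}.ncard + 1 =
        Nat.card (F4 × {x // std F4 (Fin n) x x = 0}) := by
      rw [← Set.ncard_insert_of_notMem (a := 0) (by simp), ← Nat.card_coe_set_eq]
      have e4 : ∀ (a : F4) (y : Fin n → F4), std F4 (Fin (n + 2)) (Fin.cons a (Fin.cons a y))
          (Fin.cons a (Fin.cons a y)) = std F4 (Fin n) y y := fun a y => by
        rw [std_apply, Fin.sum_univ_succ, Fin.sum_univ_succ, std_apply]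
        simp only [Fin.cons_zero, Fin.cons_succ, ← add_assoc, f4_add_self, zero_add]
      have e5 : ∀ x : Fin (n + 2) → F4, x 0 = x 1 →
          Fin.cons (x 0) (Fin.cons (x 0) (Fin.tail (Fin.tail x))) = x := fun x e => by
        conv_lhs => enter [2, 1]; rw [e]
        rw [show x 1 = Fin.tail x 0 from rfl, Fin.cons_self_tail, Fin.cons_self_tail]
      have e6 : ∀ x, x ∈ insert (0 : Fin (n + 2) → F4)
          {x | std F4 (Fin (n + 2)) x x = 0 ∧ x ≠ 0 ∧ x 0 = x 1} ↔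
          std F4 (Fin (n + 2)) x x = 0 ∧ x 0 = x 1 := fun x => by
        by_cases e : x = 0 <;> simp [e, h_zero_left]
      exact Nat.card_congr
        ⟨fun x => (x.1 0, ⟨Fin.tail (Fin.tail x.1), by
            rw [← e4 (x.1 0), e5 _ ((e6 _).1 x.2).2]; exact ((e6 _).1 x.2).1⟩),
          fun p => ⟨Fin.cons p.1 (Fin.cons p.1 p.2.1), (e6 _).2 ⟨(e4 _ _).trans p.2.2, rfl⟩⟩,
          fun x => Subtype.ext (e5 _ ((e6 _).1 x.2).2), fun p => by simp⟩
    rw [Nat.card_prod, Nat.card_eq_fintype_card (α := F4), F4.card] at e3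
    omega

theorem IsUn.par5 {v k l m : ℕ} (hn : IsUn S 5) (P : Par S v k l m) : v = 165 ∧ k = 36 := by
  have h1 : (Nat.card {x // std F4 (Fin (3 + 2)) x x = 0} : ℤ) = 496 := card_std_zero F4.hK 4
  have h2 : (Nat.card {x // std F4 (Fin 3) x x = 0} : ℤ) = 28 := card_std_zero F4.hK 2
  have := hn.par P
  omega

theorem IsUn.par7 {v k l m : ℕ} (hn : IsUn S 7) (P : Par S v k l m) : v = 2709 ∧ k = 660 := by
  have h1 : (Nat.card {x // std F4 (Fin (5 + 2)) x x = 0} : ℤ) = 8128 := card_std_zero F4.hK 6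
  have h2 : (Nat.card {x // std F4 (Fin 5) x x = 0} : ℤ) = 496 := card_std_zero F4.hK 4
  have := hn.par P
  omega

theorem IsUn.tu (h : Prim D) (k : IsUn D 6) : TU D := by
  obtain ⟨t, k⟩ := k
  have e0 : Set.range (fun p : {v // h6 v v = 0 ∧ v ≠ 0} => t6 p.1) = S6 :=
    Set.ext fun x => ⟨by rintro ⟨p, rfl⟩; exact ⟨_, p.2.1, p.2.2, rfl⟩,
      by rintro ⟨v, hv, h0, rfl⟩; exact ⟨⟨v, hv, h0⟩, rfl⟩⟩
  obtain ⟨e, he⟩ := h.ident (P := {v // h6 v v = 0 ∧ v ≠ 0}) (fun p => t p.1) (fun p => t6 p.1)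
    (Set.ext fun x => ⟨by rintro ⟨p, rfl⟩; exact k.mem _ p.2.1 p.2.2, fun hx => by
      obtain ⟨v, hv, h0, rfl⟩ := k.surj x hx; exact ⟨⟨v, hv, h0⟩, rfl⟩⟩)
    (center_PU F4.hK k.nd (by simp)) (by rw [e0]; exact closure_tvaSet F4.hK k.nd (by simp))
    (fun p => tva_mul_self F4.hK p.2.1)
    (fun p q => (k.eq_iff _ _ p.2.1 p.2.2 q.2.1 q.2.2).trans (t6_eq_iff p.2 q.2).symm)
    fun p q => ⟨⟨_, iso_conj F4.hK p.2.1 q.2.1, ne_zero_conj F4.hK p.2.1 q.2.2⟩,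
      k.conj _ _ p.2.1 p.2.2 q.2.1 q.2.2, tva_conj F4.hK p.2.1 _⟩
  exact ⟨e, (he.trans e0) ▸ cov_of_equiv e (closed_of_group h.grp)⟩

/-! ### Exceptional isomorphisms -/

/-- index of a vector -/
def ix3 (v : Fin 5 → ZMod 3) : ℕ :=
  Nat.add (@Fin.val 3 (v 0)) (Nat.mul 3 (Nat.add (@Fin.val 3 (v 1)) (Nat.mul 3
    (Nat.add (@Fin.val 3 (v 2)) (Nat.mul 3
      (Nat.add (@Fin.val 3 (v 3)) (Nat.mul 3 (@Fin.val 3 (v 4)))))))))

/-- vector of an index -/
def dc3 (n : ℕ) : Fin 5 → ZMod 3 := fun i => Fin.ofNat 3 (n / 3 ^ i.1)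

/-- the dot product -/
def dt3 (v w : Fin 5 → ZMod 3) : ZMod 3 :=
  @Fin.add 3 (Fin.add (Fin.add (Fin.add (Fin.mul (v 0) (w 0))
    (Fin.mul (v 1) (w 1))) (Fin.mul (v 2) (w 2))) (Fin.mul (v 3) (w 3))) (Fin.mul (v 4) (w 4))

/-- doubling -/
def dbl (c : ZMod 3) : ZMod 3 := @Fin.add 3 c c

/-- a linear combination -/
def rf3 (c : ZMod 3) (v w : Fin 5 → ZMod 3) : Fin 5 → ZMod 3 :=
  fun i => @Fin.add 3 (w i) (Fin.mul c (v i))

theorem dt3_eq (v w : Fin 5 → ZMod 3) : dt3 v w = v ⬝ᵥ w := by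
  rw [dotProduct, Fin.sum_univ_five]; rfl

theorem dc3_ix3 : ∀ v : Fin 5 → ZMod 3, dc3 (ix3 v) = v := by decide +kernel

theorem pm_iff (v w : Fin 5 → ZMod 3) :
    (Nat.beq (ix3 w) (ix3 v) || Nat.beq (ix3 w) (ix3 (rf3 1 v v))) = true ↔ w = v ∨ w = -v := by
  have e : rf3 1 v v = -v := funext fun i => by
    change v i + 1 * v i = - v i
    generalize v i = a; revert a; decide
  have inj : ∀ x y : Fin 5 → ZMod 3, ix3 x = ix3 y ↔ x = y := fun x y =>
    ⟨fun e => by rw [← dc3_ix3 x, e, dc3_ix3], fun e => by rw [e]⟩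
  rw [e, Bool.or_eq_true, Nat.beq_eq, Nat.beq_eq, inj, inj]

/-- the space of the elliptic form -/
abbrev VA : Type := (Fin 2 → ZMod 2) × (Fin 2 → ZMod 2) × (Fin 2 → ZMod 2)

/-- the table for `W(E₆)` -/
def cA (n : ℕ) : ℕ := Nat.mod (Nat.shiftRight 0x3cfc09a400000059400d3800000000000000000321c501c7c000002cbc0db4000000000000000000cc000000000002300000000000088001300048a2c0d3602fb0000001f700147000000000000000000cce34051600000092603ff000000000000000000320000000000008800000000000230004800132ca000000000000010000000000000440020000879e00000000000000440000000000010000840020e39000031000c28a40000c00031a68018640658000000 (Nat.mul 6 n)) 64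

/-- decoding -/
def dA (c : ℕ) : VA := (fun i => Fin.ofNat 2 (c >>> i.1), fun i => Fin.ofNat 2 (c >>> (2 + i.1)),
  fun i => Fin.ofNat 2 (c >>> (4 + i.1)))

/-- the elliptic form -/
def qA (x : VA) : ZMod 2 :=
  x.1 0 * x.2.1 0 + x.1 1 * x.2.1 1 + (x.2.2 0 * x.2.2 0 + x.2.2 0 * x.2.2 1 + x.2.2 1 * x.2.2 1)

/-- the elliptic form on codes -/
def qN (c : ℕ) : Bool := Nat.testBit 0x935f935f935f6ca0 c

theorem dA_spec1 : ∀ a < 64, qA (dA a) = 1 ↔ qN a = true := by decide +kernel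

theorem dA_spec2 (a : ℕ) (ha : a < 64) (b : ℕ) (hb : b < 64) (e : dA a = dA b) : a = b :=
  congrArg Fin.val ((by decide +kernel : ∀ a b : Fin 64, dA a = dA b → a = b) ⟨a, ha⟩ ⟨b, hb⟩ e)

theorem dA_spec3 (a : ℕ) (ha : a < 64) (b : ℕ) (hb : b < 64) : dA (Nat.xor a b) = dA a + dA b :=
  (by decide +kernel : ∀ a b : Fin 64, dA (Nat.xor a b) = dA a + dA b) ⟨a, ha⟩ ⟨b, hb⟩

/-- the vectors of norm `-1` -/
def lA : List ℕ := [108, 216, 189, 135, 90, 180, 171, 99, 36, 72, 63, 45, 84, 168, 165, 87, 30, 60, 57, 33, 12, 24, 21, 15, 82, 164, 163, 83, 28, 56, 55, 29, 10, 20, 19, 11, 4, 8, 121, 242, 202, 161, 148, 215, 229, 134, 130, 233, 211, 152, 157, 206, 238, 125, 7, 5, 124, 239, 205, 158, 151, 212, 232, 131, 133, 230, 214, 149, 160, 203, 241, 122]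

theorem tabA1 : ∀ v : Fin 5 → ZMod 3, -dt3 v v = 1 → ix3 v ∈ lA := by decide +kernel

theorem tabA2 : ∀ x, qA x = 1 → ∃ p ∈ lA, -dt3 (dc3 p) (dc3 p) = 1 ∧ dA (cA (ix3 (dc3 p))) = x := by
  decide +kernel

/-- the check for a pair -/
noncomputable def chkA (p q : ℕ) : Bool :=
  frc (cA p) fun a => frc (cA q) fun b =>
    qN a && (Nat.beq a b == (Nat.beq q p || Nat.beq q (ix3 (rf3 1 (dc3 p) (dc3 p))))) &&
    Nat.beq (cA (ix3 (rf3 (dbl (dt3 (dc3 q) (dc3 p))) (dc3 p) (dc3 q))))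
      (cond (qN (Nat.xor b a)) (Nat.xor b a) b)

theorem tabA3' : (lA.all fun p => lA.all fun q => chkA p q) = true := by decide +kernel

/-- the correspondence for `W(E₆)` -/
def gA (v : Fin 5 → ZMod 3) : VA := dA (cA (ix3 v))

theorem tabA3 {v w : Fin 5 → ZMod 3} (hv : -dt3 v v = 1) (hw : -dt3 w w = 1) : qA (gA v) = 1 ∧
    (gA v = gA w ↔ w = v ∨ w = -v) ∧
    gA (w - dt3 w v • v) = gA w + (qA (gA w + gA v) - qA (gA w) - qA (gA v)) • gA v := by
  have key : ∀ {v w : Fin 5 → ZMod 3}, -dt3 v v = 1 → -dt3 w w = 1 → chkA (ix3 v) (ix3 w) = true :=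
    fun hv hw => List.all_eq_true.1 (List.all_eq_true.1 tabA3' _ (tabA1 _ hv)) _ (tabA1 _ hw)
  have lt : ∀ n, cA n < 64 := fun n => Nat.mod_lt _ (by norm_num)
  have h1 := key hv hw
  have h2 := key hw hv
  simp only [chkA, frc_eq, dc3_ix3, Bool.and_eq_true, Nat.beq_eq, beq_iff_eq] at h1 h2
  have q1 : qA (gA v) = 1 := (dA_spec1 _ (lt _)).2 h1.1.1
  have q2 : qA (gA w) = 1 := (dA_spec1 _ (lt _)).2 h2.1.1
  refine ⟨q1, ?_, ?_⟩
  · rw [← pm_iff, ← h1.1.2, Nat.beq_eq]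
    exact ⟨dA_spec2 _ (lt _) _ (lt _), fun e => by rw [gA, e]; rfl⟩
  · have e : w - dt3 w v • v = rf3 (dbl (dt3 w v)) v w := funext fun i => by
      change w i - dt3 w v * v i = w i + (dt3 w v + dt3 w v) * v i
      generalize w i = a, v i = b, dt3 w v = c; revert a b c; decide
    have e2 := dA_spec3 _ (lt (ix3 w)) _ (lt (ix3 v))
    have e3 := dA_spec1 (Nat.xor (cA (ix3 w)) (cA (ix3 v))) (Nat.xor_lt_two_pow (n := 6) (lt (ix3 w)) (lt (ix3 v)))
    rw [e, gA, h1.2, q1, q2]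
    change _ = _ + (qA (dA _ + dA _) - 1 - 1) • _
    rw [← e2]
    cases k : qN (Nat.xor (cA (ix3 w)) (cA (ix3 v)))
    · rw [(z2_cases (qA (dA (Nat.xor (cA (ix3 w)) (cA (ix3 v)))))).resolve_right fun z => by
        rw [e3.1 z] at k; exact Bool.noConfusion k]
      simp only [cond_false]
      rw [show (0 - 1 - 1 : ZMod 2) = 0 from rfl, zero_smul, add_zero]; rfl
    · rw [e3.2 k]
      simp only [cond_true]
      rw [show (1 - 1 - 1 : ZMod 2) = 1 from rfl, one_smul, e2]; rfl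

/-- the table for `U₄(2)` -/
def cB (n : ℕ) : ℕ := Nat.mod (Nat.shiftRight 0x900000f97de500000050000099ad55000d0500b5dd00000000000059000079c441000000e90000a9142100d56d00bd65000000009d7500312400000000fda5008144000000000000000000000000d90000a90000e921140000007900005941c40065bd006dd50000000000009900005055ad000000f9000090e57d00ddb500050d00000000448100a5fd00000000243100759d000000000000000000000000d9ed950084c1000000005df5003411000000000000000000000000b9113400f55d00000000c1840095ed000000000000000000000000b90000000000000000d00000000000000000d0000069000069090900 (Nat.mul 8 n)) 256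

/-- decoding -/
def dB (c : ℕ) : Fin 4 → F4 := fun i => (Fin.ofNat 4 (Nat.shiftRight c (Nat.mul 2 i.1)) : Fin 4)

/-- the correspondence for `U₄(2)` -/
def gB (v : Fin 5 → ZMod 3) : Fin 4 → F4 := dB (cB (ix3 v))

/-- the hermitian form -/
def hB (x y : Fin 4 → F4) : F4 :=
  F4.add (F4.add (F4.add (F4.mul (x 0) (F4.mul (y 0) (y 0))) (F4.mul (x 1) (F4.mul (y 1) (y 1))))
    (F4.mul (x 2) (F4.mul (y 2) (y 2)))) (F4.mul (x 3) (F4.mul (y 3) (y 3)))

/-- a multiple -/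
def eqB (x : Fin 4 → F4) (a : F4) (y : Fin 4 → F4) : Bool :=
  Nat.beq (x 0).1 (F4.mul a (y 0)).1 && Nat.beq (x 1).1 (F4.mul a (y 1)).1 &&
    Nat.beq (x 2).1 (F4.mul a (y 2)).1 && Nat.beq (x 3).1 (F4.mul a (y 3)).1

/-- proportional -/
def prB (x y : Fin 4 → F4) : Bool := eqB x (1 : F4) y || eqB x F4.w y || eqB x F4.w' y

theorem prB_iff (x y : Fin 4 → F4) : prB x y = true ↔ ∃ a : F4, a ≠ 0 ∧ x = a • y := by
  have e : ∀ a, eqB x a y = true ↔ x = a • y := fun a => by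
    simp only [eqB, Bool.and_eq_true, Nat.beq_eq, funext_iff, Fin.forall_fin_succ, and_assoc,
      IsEmpty.forall_iff, and_true]
    exact and_congr Fin.ext_iff.symm (and_congr Fin.ext_iff.symm
      (and_congr Fin.ext_iff.symm Fin.ext_iff.symm))
  simp only [prB, Bool.or_eq_true, e]
  constructor
  · rintro ((k | k) | k)
    exacts [⟨_, by decide, k⟩, ⟨_, by decide, k⟩, ⟨_, by decide, k⟩]
  · rintro ⟨a, ha, k⟩
    rcases F4.cases a with rfl | rfl | rfl | rfl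
    exacts [absurd rfl ha, Or.inl (Or.inl k), Or.inl (Or.inr k), Or.inr k]

/-- the vectors of norm `1` -/
def lB : List ℕ := [81, 162, 27, 54, 9, 18, 3, 6, 120, 240, 201, 159, 147, 213, 228, 132, 129, 231, 210, 150, 156, 204, 237, 123, 1, 2, 118, 236, 199, 155, 145, 209, 226, 128, 127, 227, 208, 146, 154, 200, 235, 119, 112, 224, 193, 143, 139, 197, 220, 116, 94, 188, 175, 107, 40, 80, 67, 53, 103, 179, 184, 98, 49, 71, 76, 44, 115, 221, 196, 140, 142, 194, 223, 113, 97, 185, 178, 104, 43, 77, 70, 50, 106, 176, 187, 95, 52, 68, 79, 41]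

theorem tabB1 : ∀ v : Fin 5 → ZMod 3, dt3 v v = 1 →
    ix3 v ∈ lB ∧ hB (gB v) (gB v) = 0 ∧ gB v ≠ 0 := by decide +kernel

theorem tabB2 : ∀ x, hB x x = 0 → x ≠ 0 →
    ∃ p ∈ lB, prB x (gB (dc3 p)) = true ∧ dt3 (dc3 p) (dc3 p) = 1 := by decide +kernel

/-- the check for a pair -/
noncomputable def chkB (p q : ℕ) : Bool :=
  frc (cB p) fun a => frc (cB q) fun b =>
    frc (cB (ix3 (rf3 (dt3 (dc3 q) (dc3 p)) (dc3 p) (dc3 q)))) fun c =>
    (prB (dB b) (dB a) == (Nat.beq q p || Nat.beq q (ix3 (rf3 1 (dc3 p) (dc3 p))))) &&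
    prB (dB c) fun i => F4.add (dB b i) (F4.mul (hB (dB b) (dB a)) (dB a i))

theorem tabB3' : (lB.all fun p => lB.all fun q => chkB p q) = true := by decide +kernel

theorem tabB3 {v w : Fin 5 → ZMod 3} (hv : dt3 v v = 1) (hw : dt3 w w = 1) :
    ((∃ a : F4, a ≠ 0 ∧ gB w = a • gB v) ↔ w = v ∨ w = -v) ∧
    ∃ a : F4, a ≠ 0 ∧ gB (w + dt3 w v • v) = a • (gB w + hB (gB w) (gB v) • gB v) := by
  have h1 := List.all_eq_true.1 (List.all_eq_true.1 tabB3' _ (tabB1 _ hv).1) _ (tabB1 _ hw).1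
  simp only [chkB, frc_eq, dc3_ix3, Bool.and_eq_true, beq_iff_eq] at h1
  exact ⟨by rw [← pm_iff, ← h1.1, prB_iff]; rfl, (prB_iff _ _).1 h1.2⟩

theorem IsUn.isO3 (k : IsUn S 4) : IsO3 S 5 := by
  obtain ⟨t, M⟩ := k
  have e1 : ∀ x y, std F4 (Fin 4) x y = hB x y := fun x y => by
    rw [std_apply, Fin.sum_univ_four]; rfl
  have e2 : ∀ v, sq3 5 v = dt3 v v := fun v => by rw [sq3_apply, dt3_eq]
  have e3 : ∀ v w, polar (sq3 5) v w = -dt3 v w := fun v w => by rw [polar_sq3, dt3_eq]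
  have a1 : ∀ v, sq3 5 v = 1 → std F4 (Fin 4) (gB v) (gB v) = 0 ∧ gB v ≠ 0 := fun v hv => by
    have := tabB1 v (e2 v ▸ hv)
    exact ⟨(e1 _ _).trans this.2.1, this.2.2⟩
  refine ⟨sq3 5, fun v => t (gB v), nd_sq3 5, fun v hv => M.mem _ (a1 v hv).1 (a1 v hv).2,
    fun x hx => ?_, fun v w hv hw => ?_, fun v w hv hw => ?_⟩
  · obtain ⟨y, y1, y2, rfl⟩ := M.surj x hx
    obtain ⟨p, -, k, v1⟩ := tabB2 y (e1 y y ▸ y1) y2
    obtain ⟨a, ha, rfl⟩ := (prB_iff _ _).1 k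
    have := a1 _ (e2 _ ▸ v1)
    exact ⟨_, e2 _ ▸ v1, (M.smul this.1 this.2 ha).symm⟩
  · rw [M.eq_iff _ _ (a1 v hv).1 (a1 v hv).2 (a1 w hw).1 (a1 w hw).2]
    exact (tabB3 (e2 v ▸ hv) (e2 w ▸ hw)).1
  · obtain ⟨a, ha, e⟩ := (tabB3 (e2 v ▸ hv) (e2 w ▸ hw)).2
    rw [M.conj _ _ (a1 v hv).1 (a1 v hv).2 (a1 w hw).1 (a1 w hw).2, e3, neg_smul, sub_neg_eq_add, e,
      ← e1, M.smul (iso_conj F4.hK (a1 v hv).1 (a1 w hw).1)
        (ne_zero_conj F4.hK (a1 v hv).1 (a1 w hw).2) ha]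

theorem cntPlus : (Finset.univ.filter fun x : (Fin 3 → ZMod 2) × (Fin 3 → ZMod 2) × PUnit.{1} =>
    x.1 0 * x.2.1 0 + x.1 1 * x.2.1 1 + x.1 2 * x.2.1 2 = 1).card = 28 := by decide +kernel

theorem IsO2.isO3 (k : IsO2 S 6) (hv : S.ncard = 36) : IsO3 S 5 := by
  obtain ⟨Q, t, M⟩ := k
  rcases Orth.isom_plus_or_minus 2 _ Q M.nd (by simp) with i | i
  · obtain ⟨φ, hφ⟩ := i.symm
    have M' := M.congr (P' := fun v => Orth.Qm 3 (Orth.q0 (ZMod 2)) v = 1) φ hφ fun v => by rw [hφ]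
    rw [M'.card_of {v | Orth.Qm 3 (Orth.q0 (ZMod 2)) v = 1} subset_rfl (fun _ h => h)
      (fun v a => iff_of_true (M'.mem v a) a)] at hv
    have := cntPlus
    rw [← Set.ncard_coe_finset, Finset.coe_filter_univ] at this
    simp only [Orth.Qm_apply, Orth.q0_apply, Fin.sum_univ_three, add_zero] at hv
    omega
  obtain ⟨φ, hφ⟩ := i.symm
  have M' := M.congr (P' := fun v => Orth.Qm 2 (Orth.q2 (1 : ZMod 2) 1) v = 1) φ hφ
    fun v => by rw [hφ]
  have e1 : ∀ x, Orth.Qm 2 (Orth.q2 (1 : ZMod 2) 1) x = qA x := fun x => by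
    rw [Orth.Qm_apply, Orth.q2_apply, Fin.sum_univ_two, qA]; ring
  have e2 : ∀ v, diag3 (fun _ => -1) v = -dt3 v v := fun v => by
    rw [diag3_apply, dt3_eq, dotProduct, Fin.sum_univ_five, Fin.sum_univ_five]; ring
  have e3 : ∀ v w, polar (diag3 fun _ => -1) v w = dt3 v w := fun v w => by
    rw [polar_diag3, dt3_eq, dotProduct, Fin.sum_univ_five, Fin.sum_univ_five]; ring
  have a1 : ∀ v, diag3 (fun _ => -1) v = 1 → Orth.Qm 2 (Orth.q2 (1 : ZMod 2) 1) (gA v) = 1 :=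
    fun v hv => (e1 _).trans (tabA3 (e2 v ▸ hv) (e2 v ▸ hv)).1
  refine ⟨diag3 fun _ => -1, fun v => (t ∘ φ) (gA v), nd_diag3 fun _ => by decide,
    fun v hv => M'.mem _ (a1 v hv), fun x hx => ?_, fun v w hv hw => ?_, fun v w hv hw => ?_⟩
  · obtain ⟨y, y1, rfl⟩ := M'.surj x hx
    obtain ⟨p, -, v1, rfl⟩ := tabA2 y (e1 y ▸ y1)
    exact ⟨_, e2 _ ▸ v1, rfl⟩
  · rw [← (tabA3 (e2 v ▸ hv) (e2 w ▸ hw)).2.1]
    exact ⟨M'.inj _ _ (a1 v hv) (a1 w hw), fun e => by rw [e]⟩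
  · rw [M'.conj _ _ (a1 v hv) (a1 w hw), e3, (tabA3 (e2 v ▸ hv) (e2 w ▸ hw)).2.2, polar, e1, e1, e1]

end CA.Fth
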